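import Mathlib.Data.List.Basic

/-! Generated data: two subgroups of order sixteen of `M24`. -/

set_option autoImplicit false

namespace CfsgLib.M24Orbits.Data

/-- The first group: orbits an octad and its complement. -/
def twoQ : List (List ℕ) := [
  [0,1,2,3,4,5,6,7,8,9,10,11,12,13,14,15,16,17,18,19,20,21,22,23],
  [0,1,2,3,4,9,14,7,20,5,10,17,12,16,6,21,13,11,19,18,8,15,23,22],
  [1,10,0,4,7,18,15,12,16,19,2,22,3,5,21,11,9,23,20,8,13,17,6,14],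
  [1,10,0,4,7,19,21,12,13,18,2,23,3,9,15,17,5,22,8,20,16,11,14,6],
  [2,0,10,12,3,13,22,4,19,16,1,15,7,20,23,6,8,21,5,9,18,14,11,17],
  [2,0,10,12,3,16,23,4,18,13,1,21,7,8,22,14,20,15,9,5,19,6,17,11],
  [3,4,12,10,2,11,9,0,14,17,7,8,1,21,5,18,15,20,23,22,6,19,13,16],
  [3,4,12,10,2,17,5,0,6,11,7,20,1,15,9,19,21,8,22,23,14,18,16,13],
  [4,7,3,2,0,22,19,1,21,23,12,16,10,17,18,20,11,13,14,6,15,8,5,9],
  [4,7,3,2,0,23,18,1,15,22,12,13,10,11,19,8,17,16,6,14,21,20,9,5],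
  [7,12,4,0,1,6,8,10,17,14,3,9,2,23,20,13,22,5,21,15,11,16,18,19],
  [7,12,4,0,1,14,20,10,11,6,3,5,2,22,8,16,23,9,15,21,17,13,19,18],
  [10,2,1,7,12,8,17,3,5,20,0,14,4,19,11,23,18,6,16,13,9,22,21,15],
  [10,2,1,7,12,20,11,3,9,8,0,6,4,18,17,22,19,14,13,16,5,23,15,21],
  [12,3,7,1,10,15,16,2,23,21,4,19,0,14,13,5,6,18,17,11,22,9,20,8],
  [12,3,7,1,10,21,13,2,22,15,4,18,0,6,16,9,14,19,11,17,23,5,8,20]]

/-- The second group: fixing the point `0`. -/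
def twoQFix : List (List ℕ) := [
  [0,1,2,3,4,5,6,7,8,9,10,11,12,13,14,15,16,17,18,19,20,21,22,23],
  [0,1,2,3,4,9,14,7,20,5,10,17,12,16,6,21,13,11,19,18,8,15,23,22],
  [0,1,2,3,4,15,13,7,23,21,10,18,12,6,16,5,14,19,11,17,22,9,20,8],
  [0,1,2,3,4,21,16,7,22,15,10,19,12,14,13,9,6,18,17,11,23,5,8,20],
  [0,2,1,7,4,8,11,3,21,20,10,16,12,18,17,23,19,13,14,6,15,22,5,9],
  [0,2,1,7,4,20,17,3,15,8,10,13,12,19,11,22,18,16,6,14,21,23,9,5],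
  [0,2,1,7,4,22,19,3,5,23,10,6,12,17,18,20,11,14,13,16,9,8,21,15],
  [0,2,1,7,4,23,18,3,9,22,10,14,12,11,19,8,17,6,16,13,5,20,15,21],
  [0,3,7,2,12,11,5,1,16,18,10,8,4,9,15,17,21,23,20,22,14,19,6,13],
  [0,3,7,2,12,17,9,1,13,19,10,20,4,5,21,11,15,22,8,23,6,18,14,16],
  [0,3,7,2,12,18,15,1,14,11,10,23,4,21,5,19,9,8,22,20,16,17,13,6],
  [0,3,7,2,12,19,21,1,6,17,10,22,4,15,9,18,5,20,23,8,13,11,16,14],
  [0,7,3,1,12,6,22,2,11,13,10,5,4,23,20,14,8,15,9,21,18,16,19,17],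
  [0,7,3,1,12,13,20,2,18,6,10,15,4,8,22,16,23,5,21,9,11,14,17,19],
  [0,7,3,1,12,14,23,2,17,16,10,9,4,22,8,6,20,21,5,15,19,13,18,11],
  [0,7,3,1,12,16,8,2,19,14,10,21,4,20,23,13,22,9,15,5,17,6,11,18]]

end CfsgLib.M24Orbits.Data
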